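import Mathlib
import Cfsg.Agent.Characters.Core
import Cfsg.Agent.Blocks.PElements
import Cfsg.Agent.FastGrp
import Cfsg.Agent.Prune
set_option linter.all false
prune_inst 0x7f00000000000000000000000000000000000000000000000000000000000000000000000000000000000000000000000000000000000000000000000000000000000000000000000000000000000000003fffffffffffffffffffffffffffbeffbdfbfeffff
open scoped Cfsg.Agent.FastGrp

/-!
# Permutation characters on cosets (for S4769)

* `fixN H g` : the number of fixed points of `g` on the cosets of `H`; `fixN_conj`, `fixN_map`, `fixN_pos_iff`;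
* `orb P Q` : the number of orbits on `G/P × G/Q`, `sum_fixN_mul`, `classInner_fixN`;
* `orb_eq` : comparison of the number of orbits for two groups through a set of representatives;
* `classInner_fixN_irr`, `sum_ne_zero_of_le` : constituents.
-/

set_option autoImplicit false
set_option linter.unusedSectionVars false
set_option linter.style.haveILetI false

open Cfsg

namespace Cfsg.Agent.H211.Dl

open Cfsg.Agent.Characters.Core
open scoped ComplexConjugate

universe u v

section basic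

variable {G : Type u} [Group G]

/-- The number of fixed points of `g` on the cosets of `H`. -/
noncomputable def fixN (H : Subgroup G) (g : G) : ℕ := Nat.card (MulAction.fixedBy (G ⧸ H) g)

theorem mk_mem_fixedBy (H : Subgroup G) (g v : G) :
    ((v : G) : G ⧸ H) ∈ MulAction.fixedBy (G ⧸ H) g ↔ v⁻¹ * g * v ∈ H := by
  rw [MulAction.mem_fixedBy, MulAction.Quotient.smul_coe, eq_comm, QuotientGroup.eq, smul_eq_mul, mul_assoc]

theorem fixN_pos_iff [Finite G] (H : Subgroup G) (g : G) : 0 < fixN H g ↔ ∃ v : G, v⁻¹ * g * v ∈ H := by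
  unfold fixN
  rw [Nat.card_pos_iff]
  constructor
  · rintro ⟨⟨⟨x, hx⟩⟩, -⟩
    obtain ⟨v, rfl⟩ := QuotientGroup.mk_surjective x
    exact ⟨v, (mk_mem_fixedBy H g v).1 hx⟩
  · rintro ⟨v, hv⟩
    exact ⟨⟨⟨_, (mk_mem_fixedBy H g v).2 hv⟩⟩, inferInstance⟩

theorem fixN_eq_zero [Finite G] {H : Subgroup G} {g : G} (hg : ∀ v : G, v⁻¹ * g * v ∉ H) : fixN H g = 0 := by
  by_contra hcon
  obtain ⟨v, hv⟩ := (fixN_pos_iff H g).1 (Nat.pos_of_ne_zero hcon)
  exact hg v hv

theorem fixN_pos_of_mem [Finite G] {H : Subgroup G} {g : G} (hg : g ∈ H) : 0 < fixN H g :=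
  (fixN_pos_iff H g).2 ⟨1, by simpa using hg⟩

/-- `fixN` is a class function. -/
theorem fixN_conj (H : Subgroup G) (g x : G) : fixN H (x * g * x⁻¹) = fixN H g := by
  unfold fixN
  refine (Nat.card_congr (Equiv.subtypeEquiv (MulAction.toPerm x) fun a => ?_)).symm
  rw [MulAction.mem_fixedBy, MulAction.mem_fixedBy, MulAction.toPerm_apply, ← mul_smul, inv_mul_cancel_right, mul_smul,
    smul_left_cancel_iff]

/-- Transport by an isomorphism. -/
theorem fixN_map {G' : Type v} [Group G'] (e : G ≃* G') {H : Subgroup G} {H' : Subgroup G'}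
    (he : ∀ x, e x ∈ H' ↔ x ∈ H) (g : G) : fixN H' (e g) = fixN H g := by
  unfold fixN
  let f : G ⧸ H → G' ⧸ H' := Quotient.map' e fun a b hab => by
    rw [QuotientGroup.leftRel_apply] at hab ⊢
    rw [← map_inv, ← map_mul, he]
    exact hab
  have hf : ∀ x : G, f (x : G ⧸ H) = ((e x : G') : G' ⧸ H') := fun x => rfl
  have hfb : Function.Bijective f := by
    constructor
    · intro a b hab
      obtain ⟨x, rfl⟩ := QuotientGroup.mk_surjective a
      obtain ⟨y, rfl⟩ := QuotientGroup.mk_surjective b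
      rw [hf, hf, QuotientGroup.eq, ← map_inv, ← map_mul, he] at hab
      exact QuotientGroup.eq.2 hab
    · intro b
      obtain ⟨y, rfl⟩ := QuotientGroup.mk_surjective b
      exact ⟨((e.symm y : G) : G ⧸ H), by rw [hf, e.apply_symm_apply]⟩
  refine (Nat.card_congr (Equiv.subtypeEquiv (Equiv.ofBijective f hfb) fun a => ?_)).symm
  obtain ⟨x, rfl⟩ := QuotientGroup.mk_surjective a
  change _ ↔ ((e x : G') : G' ⧸ H') ∈ _
  rw [mk_mem_fixedBy, mk_mem_fixedBy, ← map_inv, ← map_mul, ← map_mul, he]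

/-! ### orbits on pairs -/

/-- The number of orbits of `G` on pairs of cosets. -/
noncomputable def orb (P Q : Subgroup G) : ℕ := Nat.card (MulAction.orbitRel.Quotient G ((G ⧸ P) × (G ⧸ Q)))

theorem sum_fixN_mul [Fintype G] (P Q : Subgroup G) :
    ∑ g : G, fixN P g * fixN Q g = orb P Q * Nat.card G := by
  classical
  haveI : Fintype ((G ⧸ P) × (G ⧸ Q)) := Fintype.ofFinite _
  have h1 := MulAction.sum_card_fixedBy_eq_card_orbits_mul_card_group G ((G ⧸ P) × (G ⧸ Q))
  unfold orb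
  rw [Nat.card_eq_fintype_card, Nat.card_eq_fintype_card, ← h1]
  refine Finset.sum_congr rfl fun g _ => ?_
  unfold fixN
  rw [← Nat.card_prod, ← Nat.card_eq_fintype_card]
  refine Nat.card_congr
    { toFun := fun x => ⟨(x.1.1, x.2.1), ?_⟩
      invFun := fun x => (⟨x.1.1, ?_⟩, ⟨x.1.2, ?_⟩)
      left_inv := fun x => rfl
      right_inv := fun x => rfl }
  · rw [MulAction.mem_fixedBy]
    exact Prod.ext x.1.2 x.2.2
  · rw [MulAction.mem_fixedBy]
    exact congrArg Prod.fst x.2
  · rw [MulAction.mem_fixedBy]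
    exact congrArg Prod.snd x.2

theorem classInner_fixN [Fintype G] (P Q : Subgroup G) :
    classInner (fun g : G => (fixN P g : ℂ)) (fun g : G => (fixN Q g : ℂ)) = (orb P Q : ℂ) := by
  rw [classInner_def, inv_mul_eq_iff_eq_mul₀ card_ne_zero_complex]
  have h1 := sum_fixN_mul P Q
  have h2 : ((∑ g : G, fixN P g * fixN Q g : ℕ) : ℂ) = ((orb P Q * Nat.card G : ℕ) : ℂ) := by rw [h1]
  push_cast at h2
  simp only [Complex.conj_natCast]
  rw [h2, mul_comm]

/-- The orbit of `(P, x Q)`. -/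
def cls (P Q : Subgroup G) (x : G) : MulAction.orbitRel.Quotient G ((G ⧸ P) × (G ⧸ Q)) :=
  Quotient.mk _ (((1 : G) : G ⧸ P), ((x : G) : G ⧸ Q))

theorem cls_eq_iff {P Q : Subgroup G} {x y : G} : cls P Q x = cls P Q y ↔ ∃ p ∈ P, ∃ q ∈ Q, y = p * x * q := by
  unfold cls
  rw [Quotient.eq, MulAction.orbitRel_apply]
  constructor
  · rintro ⟨g, hg⟩
    have hg' : g • ((((1 : G) : G ⧸ P), ((y : G) : G ⧸ Q)) : (G ⧸ P) × (G ⧸ Q)) =
      (((1 : G) : G ⧸ P), ((x : G) : G ⧸ Q)) := hg
    have h1 : ((g • (1 : G) : G) : G ⧸ P) = ((1 : G) : G ⧸ P) := congrArg Prod.fst hg'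
    have h2 : ((g • y : G) : G ⧸ Q) = ((x : G) : G ⧸ Q) := congrArg Prod.snd hg'
    rw [QuotientGroup.eq, smul_eq_mul, mul_one, mul_one] at h1
    rw [QuotientGroup.eq, smul_eq_mul] at h2
    refine ⟨g⁻¹, h1, x⁻¹ * (g * y), ?_, by group⟩
    have := inv_mem h2
    rwa [mul_inv_rev, inv_inv] at this
  · rintro ⟨p, hp, q, hq, rfl⟩
    refine ⟨p⁻¹, Prod.ext ?_ ?_⟩
    · change ((p⁻¹ • (1 : G) : G) : G ⧸ P) = ((1 : G) : G ⧸ P)
      rw [QuotientGroup.eq, smul_eq_mul, mul_one, mul_one, inv_inv]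
      exact hp
    · change ((p⁻¹ • (p * x * q) : G) : G ⧸ Q) = ((x : G) : G ⧸ Q)
      rw [QuotientGroup.eq, smul_eq_mul]
      have : (p⁻¹ * (p * x * q))⁻¹ * x = q⁻¹ := by group
      rw [this]
      exact inv_mem hq

theorem cls_surjective (P Q : Subgroup G) : Function.Surjective (cls P Q) := by
  intro c
  induction c using Quotient.inductionOn with
  | _ a =>
  obtain ⟨a, b⟩ := a
  obtain ⟨x, rfl⟩ := QuotientGroup.mk_surjective a
  obtain ⟨y, rfl⟩ := QuotientGroup.mk_surjective b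
  refine ⟨x⁻¹ * y, ?_⟩
  unfold cls
  rw [Quotient.eq, MulAction.orbitRel_apply]
  refine ⟨x⁻¹, Prod.ext ?_ ?_⟩
  · change ((x⁻¹ • x : G) : G ⧸ P) = ((1 : G) : G ⧸ P)
    rw [smul_eq_mul, inv_mul_cancel]
  · change ((x⁻¹ • y : G) : G ⧸ Q) = ((x⁻¹ * y : G) : G ⧸ Q)
    rw [smul_eq_mul]

/-- Comparison of the numbers of orbits. -/
theorem orb_eq {G' : Type v} [Group G'] {P Q : Subgroup G} {P' Q' : Subgroup G'} {ι : Type*} (f : ι → G) (f' : ι → G')
    (hf : ∀ g, ∃ i, ∃ p ∈ P, ∃ q ∈ Q, g = p * f i * q) (hf' : ∀ g, ∃ i, ∃ p ∈ P', ∃ q ∈ Q', g = p * f' i * q)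
    (hff : ∀ i j, (∃ p ∈ P, ∃ q ∈ Q, f j = p * f i * q) ↔ (∃ p ∈ P', ∃ q ∈ Q', f' j = p * f' i * q)) :
    orb P Q = orb P' Q' := by
  have h1 : Function.Surjective (fun i => cls P Q (f i)) := by
    intro c
    obtain ⟨g, rfl⟩ := cls_surjective P Q c
    obtain ⟨i, p, hp, q, hq, e⟩ := hf g
    exact ⟨i, cls_eq_iff.2 ⟨p, hp, q, hq, e⟩⟩
  have h2 : Function.Surjective (fun i => cls P' Q' (f' i)) := by
    intro c
    obtain ⟨g, rfl⟩ := cls_surjective P' Q' c
    obtain ⟨i, p, hp, q, hq, e⟩ := hf' g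
    exact ⟨i, cls_eq_iff.2 ⟨p, hp, q, hq, e⟩⟩
  unfold orb
  have h3 : Setoid.ker (fun i => cls P Q (f i)) = Setoid.ker (fun i => cls P' Q' (f' i)) := by
    ext i j
    rw [Setoid.ker_def, Setoid.ker_def, cls_eq_iff, cls_eq_iff]
    exact hff i j
  rw [← Nat.card_congr (Setoid.quotientKerEquivOfSurjective _ h1),
    ← Nat.card_congr (Setoid.quotientKerEquivOfSurjective _ h2), h3]

/-- Equal Gram matrices: the same linear relations. -/
theorem relation_iff {G' : Type v} [Group G'] [Finite G] [Finite G'] {ι : Type*} [Fintype ι] (P : ι → Subgroup G)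
    (P' : ι → Subgroup G') (h : ∀ i j, orb (P i) (P j) = orb (P' i) (P' j)) (a : ι → ℂ)
    (ha : ∀ g, ∑ i, a i * (fixN (P i) g : ℂ) = 0) (g : G') : ∑ i, a i * (fixN (P' i) g : ℂ) = 0 := by
  haveI := Fintype.ofFinite G
  haveI := Fintype.ofFinite G'
  have key : ∀ {H : Type _} [Group H] [Fintype H] (R : ι → Subgroup H),
      classInner (∑ i, a i • fun g : H => (fixN (R i) g : ℂ)) (∑ i, a i • fun g : H => (fixN (R i) g : ℂ)) =
        ∑ i, ∑ j, conj (a i) * (a j * (orb (R j) (R i) : ℂ)) := by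
    intro H _ _ R
    rw [classInner_sum_right]
    refine Finset.sum_congr rfl fun i _ => ?_
    rw [classInner_smul_right, classInner_sum_left, Finset.mul_sum]
    refine Finset.sum_congr rfl fun j _ => ?_
    rw [classInner_smul_left, classInner_fixN]
  have key' : classInner (∑ i, a i • fun g : G' => (fixN (P' i) g : ℂ)) (∑ i, a i • fun g : G' => (fixN (P' i) g : ℂ)) =
        ∑ i, ∑ j, conj (a i) * (a j * (orb (P' j) (P' i) : ℂ)) := by
    rw [classInner_sum_right]
    refine Finset.sum_congr rfl fun i _ => ?_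
    rw [classInner_smul_right, classInner_sum_left, Finset.mul_sum]
    refine Finset.sum_congr rfl fun j _ => ?_
    rw [classInner_smul_left, classInner_fixN]
  have h1 : (∑ i, a i • fun g : G => (fixN (P i) g : ℂ)) = 0 := by
    funext g
    rw [Finset.sum_apply]
    simpa using ha g
  have h2 : classInner (∑ i, a i • fun g : G' => (fixN (P' i) g : ℂ)) (∑ i, a i • fun g : G' => (fixN (P' i) g : ℂ)) = 0 := by
    rw [key', ← classInner_zero_left (0 : G → ℂ)]
    conv_rhs => rw [← h1]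
    rw [key P]
    refine Finset.sum_congr rfl fun i _ => Finset.sum_congr rfl fun j _ => ?_
    rw [h]
  have h3 := congrFun (classInner_self_eq_zero h2) g
  rw [Finset.sum_apply] at h3
  simpa using h3

/-! ### constituents -/

/-- `|P| ∑_g 1_P^G(g) f(g) = |G| ∑_{p ∈ P} f(p)`. -/
theorem sum_fixN_mul_fun [Fintype G] (P : Subgroup G) {f : G → ℂ} (hf : IsClassFunction G f) [DecidablePred (· ∈ P)] :
    (Nat.card P : ℂ) * ∑ g : G, (fixN P g : ℂ) * f g = (Nat.card G : ℂ) * ∑ g : G, if g ∈ P then f g else 0 := by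
  classical
  -- `|Fix(g)| |P| = |{v | v⁻¹ g v ∈ P}|`
  have h1 : ∀ g : G, (Nat.card P : ℂ) * (fixN P g : ℂ) = ∑ v : G, if v⁻¹ * g * v ∈ P then 1 else 0 := by
    intro g
    have e : Nat.card P * fixN P g = Nat.card {v : G // v⁻¹ * g * v ∈ P} := by
      unfold fixN
      rw [← Nat.card_prod]
      refine Nat.card_congr ((QuotientGroup.preimageMkEquivSubgroupProdSet P
        (MulAction.fixedBy (G ⧸ P) g)).symm.trans (Equiv.subtypeEquivRight fun v => ?_))
      exact mk_mem_fixedBy P g v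
    have e2 : (Nat.card {v : G // v⁻¹ * g * v ∈ P} : ℂ) = ∑ v : G, if v⁻¹ * g * v ∈ P then 1 else 0 := by
      rw [Nat.card_eq_fintype_card, Fintype.card_subtype, Finset.card_filter]
      push_cast
      rfl
    rw [← e2, ← e]
    push_cast
    rfl
  rw [Finset.mul_sum]
  have h2 : ∀ g : G, (Nat.card P : ℂ) * ((fixN P g : ℂ) * f g) = ∑ v : G, if v⁻¹ * g * v ∈ P then f g else 0 := by
    intro g
    rw [← mul_assoc, h1, Finset.sum_mul]
    refine Finset.sum_congr rfl fun v _ => ?_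
    split_ifs
    · rw [one_mul]
    · rw [zero_mul]
  rw [Finset.sum_congr rfl fun g _ => h2 g, Finset.sum_comm]
  have h3 : ∀ v : G, (∑ g : G, if v⁻¹ * g * v ∈ P then f g else 0) = ∑ g : G, if g ∈ P then f g else 0 := by
    intro v
    refine Fintype.sum_equiv (MulAut.conj v⁻¹).toEquiv _ _ fun g => ?_
    have e1 : (MulAut.conj v⁻¹).toEquiv g = v⁻¹ * g * v := by
      change MulAut.conj v⁻¹ g = _
      rw [MulAut.conj_apply, inv_inv]
    have e2 : f (v⁻¹ * g * v) = f g := by
      have := hf g v⁻¹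
      rwa [inv_inv] at this
    rw [e1, e2]
  rw [Finset.sum_congr rfl fun v _ => h3 v, Finset.sum_const, Finset.card_univ, nsmul_eq_mul, Nat.card_eq_fintype_card]

theorem finsum_subgroup_eq [Fintype G] (P : Subgroup G) (f : G → ℂ) [DecidablePred (· ∈ P)] :
    ∑ᶠ x : P, f x = ∑ g : G, if g ∈ P then f g else 0 := by
  classical
  rw [finsum_eq_sum_of_fintype, ← Finset.sum_filter]
  exact Finset.sum_bij (fun x _ => (x : G)) (fun x _ => by simp) (fun x _ y _ hxy => Subtype.ext hxy)
    (fun g hg => ⟨⟨g, by simpa using hg⟩, Finset.mem_univ _, rfl⟩) (fun x _ => rfl)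

/-- Constituents of the permutation character on the cosets of `P`. -/
theorem sum_ne_zero_of_classInner [Fintype G] {P : Subgroup G} {χ : G → ℂ} (hχ : IsClassFunction G χ)
    (h : classInner (fun g : G => (fixN P g : ℂ)) χ ≠ 0) : ∑ᶠ x : P, χ x ≠ 0 := by
  classical
  intro h0
  apply h
  have hc : IsClassFunction G (fun g => conj (χ g)) := fun g x => by
    simp only [hχ g x]
  have h1 := sum_fixN_mul_fun P hc
  have h2 : (∑ g : G, if g ∈ P then conj (χ g) else 0) = 0 := by
    rw [finsum_subgroup_eq] at h0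
    have h3 := congrArg (fun z => conj z) h0
    simp only [map_sum, map_zero] at h3
    refine Eq.trans (Finset.sum_congr rfl fun g _ => ?_) h3
    split_ifs
    · rfl
    · rw [map_zero]
  rw [h2, mul_zero, mul_eq_zero] at h1
  rw [classInner_def]
  rcases h1 with h1 | h1
  · exact absurd h1 (by exact_mod_cast Nat.card_pos.ne')
  · rw [h1, mul_zero]

theorem classInner_one_right [Fintype G] (χ : G → ℂ) :
    classInner χ (1 : G → ℂ) = (Nat.card G : ℂ)⁻¹ * ∑ g : G, χ g := by
  rw [classInner_def]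
  simp

/-- A character of `H` with a trivial constituent has one on every subgroup. -/
theorem sum_ne_zero_of_le [Finite G] {χ : G → ℂ} (hχ : IsCharacter G χ) {K H : Subgroup G} (hKH : K ≤ H)
    (h : ∑ᶠ x : H, χ x ≠ 0) : ∑ᶠ x : K, χ x ≠ 0 := by
  classical
  haveI := Fintype.ofFinite G
  haveI := Fintype.ofFinite H
  haveI := Fintype.ofFinite K
  haveI : Finite (IrrCharacter H) := finite_irr
  haveI := Fintype.ofFinite (IrrCharacter H)
  have hθ : IsCharacter H (fun x : H => χ x) := isCharacter_comp H.subtype hχ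
  obtain ⟨m, hm⟩ := exists_nat_comb hθ
  let o : IrrCharacter H := ⟨1, isIrr_one⟩
  have h1 : classInner (fun x : H => χ x) (1 : H → ℂ) = m o := by
    rw [hm]
    exact classInner_sum_nsmul_irr m o
  have h2 : m o ≠ 0 := by
    intro h3
    rw [h3, classInner_one_right, Nat.cast_zero, mul_eq_zero] at h1
    rcases h1 with h1 | h1
    · exact absurd (inv_eq_zero.1 h1) card_ne_zero_complex
    · rw [finsum_eq_sum_of_fintype] at h
      exact h h1
  -- `χ|_H = 1 + ψ`
  obtain ⟨ψ, hψ, hχψ⟩ : ∃ ψ : H → ℂ, IsCharacter H ψ ∧ ∀ x : H, χ x = 1 + ψ x := by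
    refine ⟨∑ θ : IrrCharacter H, (if θ = o then m θ - 1 else m θ) • (θ : H → ℂ), ?_, fun x => ?_⟩
    · exact isCharacter_sum _ fun θ _ => isCharacter_nsmul _ (isIrr_isCharacter θ.2)
    · have h3 := congrFun hm x
      rw [h3, Finset.sum_apply, Finset.sum_apply, ← Finset.add_sum_erase _ _ (Finset.mem_univ o),
        ← Finset.add_sum_erase _ _ (Finset.mem_univ o), ← add_assoc]
      congr 1
      · rw [if_pos rfl, Pi.smul_apply, Pi.smul_apply]
        change m o • (1 : ℂ) = 1 + (m o - 1) • (1 : ℂ)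
        obtain ⟨k, hk⟩ := Nat.exists_eq_succ_of_ne_zero h2
        rw [hk, Nat.succ_eq_add_one, Nat.add_sub_cancel, succ_nsmul]
        ring
      · refine Finset.sum_congr rfl fun θ hθ => ?_
        rw [if_neg (Finset.ne_of_mem_erase hθ)]
  have hK : IsCharacter K (fun x : K => ψ (Subgroup.inclusion hKH x)) := isCharacter_comp (Subgroup.inclusion hKH) hψ
  obtain ⟨k, hk⟩ := classInner_isNat hK (isCharacter_one (G := K))
  rw [classInner_one_right, inv_mul_eq_iff_eq_mul₀ card_ne_zero_complex] at hk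
  rw [finsum_eq_sum_of_fintype]
  have h3 : ∑ x : K, χ x = (Nat.card K : ℂ) * (1 + k : ℕ) := by
    push_cast
    rw [mul_add, mul_one, ← hk]
    have h4 : ∀ x : K, χ x = 1 + ψ (Subgroup.inclusion hKH x) := fun x => hχψ (Subgroup.inclusion hKH x)
    rw [Finset.sum_congr rfl fun x _ => h4 x, Finset.sum_add_distrib, Finset.sum_const, Finset.card_univ,
      nsmul_eq_mul, mul_one, Nat.card_eq_fintype_card]
  rw [h3]
  refine mul_ne_zero card_ne_zero_complex ?_
  exact_mod_cast (by omega : 1 + k ≠ 0)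

/-- `⟨1_P^G, 1⟩ = 1`. -/
theorem classInner_fixN_one [Fintype G] (P : Subgroup G) : classInner (fun g : G => (fixN P g : ℂ)) (1 : G → ℂ) = 1 := by
  classical
  have hc : IsClassFunction G (1 : G → ℂ) := fun g x => rfl
  have h1 := sum_fixN_mul_fun P hc
  have h2 : (∑ g : G, if g ∈ P then (1 : G → ℂ) g else 0) = (Nat.card P : ℂ) := by
    rw [Nat.card_eq_fintype_card, Fintype.card_subtype, Finset.card_filter]
    push_cast
    rfl
  rw [h2, mul_comm (Nat.card G : ℂ)] at h1
  have h3 := mul_left_cancel₀ (card_ne_zero_complex (G := P)) h1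
  rw [classInner_one_right, inv_mul_eq_iff_eq_mul₀ card_ne_zero_complex, mul_one, ← h3]
  refine Finset.sum_congr rfl fun g _ => ?_
  rw [Pi.one_apply, mul_one]

end basic

end Cfsg.Agent.H211.Dl
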